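import Cfsg.Agent.H966.Cov.Tools
import Cfsg.Agent.H898.RowMcL
import Cfsg.Agent.H434.Cov.AltEvenNine
import Cfsg.Agent.H455.NoNine
import Cfsg.Agent.H325.ConM22
import Cfsg.Agent.H251.Small.U43
import Cfsg.Agent.H681.Der.Psl7
import Cfsg.Agent.H681.Der.Psl8

/-!
# S2499: `McL` is not the union of the conjugates of two proper subgroups (helper966)

Three pairwise incompatible element orders: 11, 14, 9.
-/

set_option autoImplicit false

namespace Cfsg.Agent.H966.Cov

open Subgroup Cfsg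
open Cfsg.Agent.OrdDiv Cfsg.Agent.H966.Der
open Cfsg.Agent.H257.El hiding Sit
open Cfsg.Agent.H257.Cov (OInc noTwo_of_orders)

theorem m22_nine {S : Type*} [Group S] (h : Spor.IsoM22 S) (z : S) : orderOf z ≠ 9 := by
  obtain ⟨e⟩ := h
  intro hz
  exact Cfsg.Agent.H455.NoNine.m22 (e z) (by rw [MulEquiv.orderOf_eq, hz])

theorem m22_fourteen {S : Type*} [Group S] (h : Spor.IsoM22 S) (z : S) : orderOf z ≠ 14 := by
  obtain ⟨e⟩ := h
  intro hz
  have h1 : orderOf (e z) = 14 := by rw [MulEquiv.orderOf_eq, hz]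
  set w := e z with hw
  have h7 : orderOf (w ^ 2) = 7 := by rw [orderOf_pow_of_dvd (by norm_num) (by rw [h1]; norm_num), h1]
  have h2 : orderOf (w ^ 7) = 2 := by rw [orderOf_pow_of_dvd (by norm_num) (by rw [h1]; norm_num), h1]
  refine Cfsg.Agent.H325.ConM22.no_comm (t := ((w ^ 7 : Spor.M22) : Equiv.Perm GolayPt))
    (x := ((w ^ 2 : Spor.M22) : Equiv.Perm GolayPt)) (w ^ 7 : Spor.M22).2 (w ^ 2 : Spor.M22).2 ?_ ?_ (p := 7)
    (by norm_num) (by norm_num) (by norm_num) ?_ ?_
  · have h3 : w ^ 7 * w ^ 7 = 1 := by rw [← pow_two, ← h2, pow_orderOf_eq_one]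
    exact congrArg Subtype.val h3
  · intro h3
    have h4 : w ^ 7 = 1 := Subtype.ext h3
    rw [h4, orderOf_one] at h2
    norm_num at h2
  · rw [Subgroup.orderOf_coe, h7]
  · have h3 : w ^ 2 * w ^ 7 = w ^ 7 * w ^ 2 := by rw [← pow_add, ← pow_add]
    exact congrArg Subtype.val h3

/-- `9 ∤ 5 c`, `c ∣ 5`... the index -/
theorem nine_dvd_of {Q : Type*} [Group Q] [Finite Q] (N : Subgroup Q) {z : Q} (hz : orderOf z = 9) :
    9 ∣ Nat.card N * N.index := by
  rw [Subgroup.card_mul_index, ← hz]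
  exact _root_.orderOf_dvd_natCard _

theorem l32 {F : Type*} [Field F] [Fintype F] (hF : Fintype.card F = 2)
    (x : Matrix.ProjectiveSpecialLinearGroup (Fin 3) F) : orderOf x ∈ [1, 2, 3, 4, 7] := by
  have : Fact (Nat.Prime 2) := ⟨Nat.prime_two⟩
  have : CharP F 2 := H455.NoNine.charP_of_card (k := 1) Nat.prime_two (by rw [hF]; norm_num)
  have h1 := Cfsg.Agent.S2476.result (F := F) 2
  have h2 : orderOf x ∈ Set.range (orderOf : Matrix.ProjectiveSpecialLinearGroup (Fin 3) F → ℕ) := ⟨x, rfl⟩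
  rw [h1, hF] at h2
  rcases h2 with h | h | h | h | ⟨-, h⟩
  · norm_num at h
    have := Cfsg.Agent.H251.Der.dvd_seven h
    simp only [List.mem_cons, List.not_mem_nil, or_false] at this ⊢
    omega
  · norm_num at h
    have := Cfsg.Agent.H251.Der.dvd_three h
    simp only [List.mem_cons, List.not_mem_nil, or_false] at this ⊢
    omega
  · norm_num at h
    simp [h]
  · norm_num at h
    have := Cfsg.Agent.H251.Der.dvd_two h
    simp only [List.mem_cons, List.not_mem_nil, or_false] at this ⊢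
    omega
  · have := Cfsg.Agent.H251.Der.dvd_four h
    simp only [List.mem_cons, List.not_mem_nil, or_false] at this ⊢
    omega

/-- no elements of order `r s` if there is a self-centralizing subgroup of order `r`, `r ∥ |G|` -/
theorem no_of_selfcent {G : Type*} [Group G] [Finite G] {r k : ℕ} (hr : r.Prime) (h2 : ¬ r ^ 2 ∣ Nat.card G)
    (hP : ∃ P : Subgroup G, Nat.card P = r ∧ centralizer (P : Set G) = P) (hk : 1 < k) (z : G) : orderOf z ≠ r * k := by
  intro hz
  have hr' : Fact r.Prime := ⟨hr⟩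
  obtain ⟨P, hP, hPc⟩ := hP
  obtain ⟨x, hx⟩ := exists_prime_orderOf_dvd_card' (G := P) r (by rw [hP])
  have hxo : orderOf (x : G) = r := by rw [Subgroup.orderOf_coe, hx]
  have hxP : zpowers (x : G) = P := by
    apply Subgroup.eq_of_le_of_card_ge
    · rw [zpowers_le]; exact x.2
    · rw [Nat.card_zpowers, hxo, hP]
  have h1 : Nat.card (centralizer ({(x : G)} : Set G)) = r := by
    rw [← cent_zpowers, hxP, hPc, hP]
  have h3 := dvd_cent hr h2 ⟨x, hxo, h1⟩ (by omega) hz
  have h4 := Nat.le_of_dvd hr.pos h3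
  have h5 : r * 1 < r * k := Nat.mul_lt_mul_of_pos_left hk hr.pos
  omega

theorem no_14_u43 {F : Type} [Field F] [Fintype F] (hF : Fintype.card F = 3 ^ 2)
    (hc : Nat.card (PSU 4 F 3) = 3265920) (z : PSU 4 F 3) : orderOf z ≠ 14 := by
  have hfin : Finite (PSU 4 F 3) := inferInstance
  exact no_of_selfcent (r := 7) (k := 2) (by norm_num) (by rw [hc]; norm_num)
    (Cfsg.Agent.H251.Small.selfcent7_u43 (F := F) hF) (by norm_num) z

namespace McL

open Cfsg.Agent.H966.Der.McL

variable {T : Type} [Group T]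

/-- the order of the core is prime to 3 -/
theorem not_three [Finite T] (h : Spor.IsoMcL T) {r B : ℕ} (hr : r.Prime) (hr3 : r ≠ 3)
    (hno : ∀ z : T, orderOf z ≠ r * 3) {R : Subgroup T} (hd : r ∣ Nat.card R) (O : Subgroup R) [O.Normal]
    (hO : ¬ r ∣ Nat.card O) (hB5 : 5 ≤ B) (hB : ∀ b : ℕ, b ≤ 6 → 1 ≤ b → 3 ^ b % r = 1 → b = B) :
    ¬ 3 ∣ Nat.card O := by
  intro h3O
  have h3' : Fact (Nat.Prime 3) := ⟨Nat.prime_three⟩
  have hc := Cfsg.Agent.NotCT.Orders.mcl h
  obtain ⟨P, hP, hab⟩ := exists_abelian (B := B) hr Nat.prime_three hr3 hd O hO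
    (Cfsg.Agent.H257.El.Sit.noR hno) h3O fun b hb hbd h1 => by
      refine hB b ?_ hb h1
      by_contra h2
      have h3 : 3 ^ 7 ∣ Nat.card T := (pow_dvd_pow 3 (by omega)).trans (hbd.trans
        ((Subgroup.card_subgroup_dvd_card O).trans (Subgroup.card_subgroup_dvd_card R)))
      rw [hc] at h3
      norm_num at h3
  obtain ⟨K, hK⟩ := Sylow.exists_subgroup_card_pow_prime (G := P) 3 (n := 5) (by rw [hP]; exact pow_dvd_pow 3 hB5)
  refine Cfsg.Agent.H898.RowMcL.no_abelian h ((K.map P.subtype).map R.subtype) ?_ ?_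
  · rw [Subgroup.card_map_of_injective R.subtype_injective, Subgroup.card_map_of_injective P.subtype_injective, hK]
    norm_num
  · rintro _ ⟨_, ⟨⟨u, hu⟩, hu', rfl⟩, rfl⟩ _ ⟨_, ⟨⟨v, hv⟩, hv', rfl⟩, rfl⟩
    exact congrArg Subtype.val (hab u hu v hv)

variable (tab : OrderTable.{0}) (known : Known.{0})

include tab known in
/-- the situation for `r = 11` -/
theorem eleven [Finite T] (h : Spor.IsoMcL T) {R : Subgroup T} (hR : R ≠ ⊤) (hd : 11 ∣ Nat.card R) :
    ∃ (O : Subgroup R) (_ : O.Normal) (N : Subgroup (R ⧸ O)), Top R 11 O N ∧ ¬ 2 ∣ Nat.card O ∧ ¬ 3 ∣ Nat.card O ∧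
      ¬ 7 ∣ Nat.card O ∧ N.index ∣ 5 ∧ (Nat.card N = 11 ∨ Nat.card N = 660 ∨ Real .m11 N ∨ Real .m12 N ∨
        Real .m22 N) := by
  have hc := Cfsg.Agent.NotCT.Orders.mcl h
  have S : Sit T 898128000 l 11 R := ⟨tab, known, hc, valid_l, by norm_num, by norm_num, hd, hR⟩
  obtain ⟨O, hO, N, hT⟩ := S.exists_top
  have hNn := hT.normal
  obtain ⟨i1, i2⟩ := Cfsg.Agent.H257.Cov.index_dvd_E (iso_11 h) (by rw [hc]; norm_num) (by rw [hc]; norm_num) hT
  have hE : Cfsg.Agent.H257.Cov.E (Nat.card T) 11 = 5 := by rw [hc]; rfl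
  rw [hE] at i1 i2
  have hO2 : ¬ 2 ∣ Nat.card O := hT.not_dvd_core (by norm_num) (by norm_num)
    (Cfsg.Agent.H257.El.Sit.noR (iso_11 h 2 (by norm_num) (by norm_num))) fun b hb hd => by
      have h1 := hd.trans S.dvd_n
      have h2 : b ≤ 7 := by
        by_contra h3
        have := (pow_dvd_pow 2 (show 8 ≤ b by omega)).trans h1
        norm_num at this
      interval_cases b <;> norm_num
  have hO7 : ¬ 7 ∣ Nat.card O := hT.not_dvd_core (by norm_num) (by norm_num)
    (Cfsg.Agent.H257.El.Sit.noR (iso_11 h 7 (by norm_num) (by norm_num))) fun b hb hd => by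
      have h1 := hd.trans S.dvd_n
      have h2 : b ≤ 1 := by
        by_contra h3
        have := (pow_dvd_pow 7 (show 2 ≤ b by omega)).trans h1
        norm_num at this
      interval_cases b <;> norm_num
  have hO3 : ¬ 3 ∣ Nat.card O := not_three h (r := 11) (B := 5) (by norm_num) (by norm_num)
    (iso_11 h 3 (by norm_num) (by norm_num)) hd O hT.core le_rfl (by
      intro b hb hb1
      interval_cases b <;> norm_num)
  by_cases hna : ∀ a b : N, a * b = b * a
  · exact ⟨O, hO, N, hT, hO2, hO3, hO7, i1 hna, Or.inl (hT.card_of_comm hna)⟩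
  refine ⟨O, hO, N, hT, hO2, hO3, hO7, (dvd_mul_left _ _).trans (i2 hna), Or.inr ?_⟩
  obtain ⟨g, hg, hr, hgc⟩ := S.exists_surv hT hna [] (by simp)
  have hg' := mem_of_chkSurv (L := [.alt 11, .psl 2 11, .m11, .m12, .m22]) (by decide +kernel) hg
  simp only [List.mem_cons, List.not_mem_nil, or_false] at hg'
  rcases hg' with rfl | rfl | rfl | rfl | rfl
  · exfalso
    obtain ⟨e⟩ := hr
    obtain ⟨σ, hσ⟩ := exists_21_11
    obtain ⟨z, hz⟩ := Cfsg.Agent.H257.El.Sit.exists_orderOf (N := N) (k := 21)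
      ⟨e.symm σ, by rw [MulEquiv.orderOf_eq, hσ]⟩
    exact no_7 h (k := 3) (by norm_num) (by norm_num) z hz
  · exact Or.inl (by rw [hgc]; decide +kernel)
  · exact Or.inr (Or.inl hr)
  · exact Or.inr (Or.inr (Or.inl hr))
  · exact Or.inr (Or.inr (Or.inr hr))

include tab known in
theorem inc_11_9 (h : Spor.IsoMcL T) : OInc T 11 9 := by
  intro R hR x hx y hy hxr hym
  have hfin := finite h
  have hrR : 11 ∣ Nat.card R := by rw [← hxr]; exact Subgroup.orderOf_dvd_natCard _ hx
  obtain ⟨O, hO, N, hT, -, h3, -, hi, hN⟩ := eleven tab known h hR hrR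
  have hNn := hT.normal
  have c3 : Nat.Coprime 3 (Nat.card O) := (Nat.Prime.coprime_iff_not_dvd (by norm_num)).2 h3
  have d3 : Nat.Coprime 3 N.index := Nat.Coprime.coprime_dvd_right hi (by norm_num)
  obtain ⟨w, hw⟩ := Sit.exists_of_coprime hy (O := O) (N := N)
    (by rw [hym, show 9 = 3 * 3 by norm_num]; exact c3.mul_left c3) hNn
    (by rw [hym, show 9 = 3 * 3 by norm_num]; exact d3.mul_left d3)
  rw [hym] at hw
  have hw' := _root_.orderOf_dvd_natCard w
  rw [hw] at hw'
  rcases hN with hN | hN | hN | hN | hN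
  · rw [hN] at hw'
    norm_num at hw'
  · rw [hN] at hw'
    norm_num at hw'
  · exact Cfsg.Agent.H434.Cov.mathieu_nine N (Or.inl hN) w hw
  · exact Cfsg.Agent.H434.Cov.mathieu_nine N (Or.inr hN) w hw
  · exact m22_nine hN w hw

include tab known in
theorem inc_11_14 (h : Spor.IsoMcL T) : OInc T 11 14 := by
  intro R hR x hx y hy hxr hym
  have hfin := finite h
  have hrR : 11 ∣ Nat.card R := by rw [← hxr]; exact Subgroup.orderOf_dvd_natCard _ hx
  obtain ⟨O, hO, N, hT, h2, -, h7, hi, hN⟩ := eleven tab known h hR hrR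
  have hNn := hT.normal
  have c2 : Nat.Coprime 2 (Nat.card O) := (Nat.Prime.coprime_iff_not_dvd (by norm_num)).2 h2
  have c7 : Nat.Coprime 7 (Nat.card O) := (Nat.Prime.coprime_iff_not_dvd (by norm_num)).2 h7
  have d : Nat.Coprime 14 N.index := Nat.Coprime.coprime_dvd_right hi (by norm_num)
  obtain ⟨w, hw⟩ := Sit.exists_of_coprime hy (O := O) (N := N)
    (by rw [hym, show 14 = 2 * 7 by norm_num]; exact c2.mul_left c7) hNn (by rw [hym]; exact d)
  rw [hym] at hw
  have hw' := _root_.orderOf_dvd_natCard w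
  rw [hw] at hw'
  rcases hN with hN | hN | hN | hN | hN
  · rw [hN] at hw'
    norm_num at hw'
  · rw [hN] at hw'
    norm_num at hw'
  · rw [Cfsg.Agent.NotCT.Orders.m11 hN] at hw'
    norm_num at hw'
  · rw [Cfsg.Agent.NotCT.Orders.m12 hN] at hw'
    norm_num at hw'
  · exact m22_fourteen hN w hw

include tab known in
theorem inc_14_9 (h : Spor.IsoMcL T) : OInc T 14 9 := by
  intro R hR y hy x hx hym hxr
  have hfin := finite h
  have hc := Cfsg.Agent.NotCT.Orders.mcl h
  have hd : 7 ∣ Nat.card R := by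
    have h1 := Subgroup.orderOf_dvd_natCard _ hy
    rw [hym] at h1
    exact (by norm_num : 7 ∣ 14).trans h1
  have S : Sit T 898128000 l 7 R := ⟨tab, known, hc, valid_l, by norm_num, by norm_num, hd, hR⟩
  obtain ⟨O, hO, N, hT⟩ := S.exists_top
  have hNn := hT.normal
  have no21 : ∀ z : T, orderOf z ≠ 7 * 3 := no_7 h (by norm_num) (by norm_num)
  have h3 : ¬ 3 ∣ Nat.card O := not_three h (r := 7) (B := 6) (by norm_num) (by norm_num) no21 hd O hT.core
    (by norm_num) (by
      intro b hb hb1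
      interval_cases b <;> norm_num)
  have c3 : Nat.Coprime 3 (Nat.card O) := (Nat.Prime.coprime_iff_not_dvd (by norm_num)).2 h3
  have c9 : Nat.Coprime 9 (Nat.card O) := by rw [show 9 = 3 * 3 by norm_num]; exact c3.mul_left c3
  by_cases hna : ∀ a b : N, a * b = b * a
  · have h1 := hT.index_dvd_of_comm hna
    have h2 := nine_dvd_of N (z := QuotientGroup.mk' O (⟨x, hx⟩ : R)) (by
      rw [orderOf_mk_of_coprime O (by rw [Subgroup.orderOf_mk, hxr]; exact c9), Subgroup.orderOf_mk, hxr])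
    rw [hT.card_of_comm hna] at h2
    have h4 : 9 ∣ 7 * 6 := h2.trans (Nat.mul_dvd_mul_left _ h1)
    norm_num at h4
  have hNM : Nat.card N ∣ Nat.card R := (Subgroup.card_subgroup_dvd_card N).trans ⟨_, (card_quot_mul O).symm⟩
  have hN2 : ¬ 7 ^ 2 ∣ Nat.card N := fun h1 => S.sqM (h1.trans hNM)
  -- no element of order 9 in `N`
  have key : ¬ 3 ∣ N.index → (∀ w : N, orderOf w ≠ 9) → False := by
    intro hi hno
    have d3 : Nat.Coprime 3 N.index := (Nat.Prime.coprime_iff_not_dvd (by norm_num)).2 hi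
    obtain ⟨w, hw⟩ := Sit.exists_of_coprime hx (O := O) (N := N)
      (by rw [hxr]; exact c9) hNn
      (by rw [hxr, show 9 = 3 * 3 by norm_num]; exact d3.mul_left d3)
    exact hno w (by rw [hw, hxr])
  have key9 : (Nat.card N / 7) % 7 = 3 → Nat.card N ≠ 7 →
      (∀ p : ℕ, p.Prime → 7 ≠ p → ∀ z : N, orderOf z ≠ 7 * p) → (∀ w : N, orderOf w ≠ 9) → False := by
    intro hmod hne hiso hno
    exact key (not_dvd_index_mod hT (s := 3) (e := 3) (by norm_num) (by norm_num) (Cfsg.Agent.H257.El.Sit.noR no21)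
      (by norm_num) hiso hmod dvd_rfl hne) hno
  -- no real elements of order 7
  have keyR : 2 ∣ (Nat.card N / 7) % 7 → Nat.card N ≠ 7 →
      (∀ p : ℕ, p.Prime → 7 ≠ p → ∀ z : N, orderOf z ≠ 7 * p) → False := by
    intro hmod hne hiso
    obtain ⟨x, c, hx, hc⟩ := exists_real_of hT hmod hne hiso
    exact no_real h (x := (x : T)) (c := (c : T)) (by rw [Subgroup.orderOf_coe, hx]) (by
      have := congrArg (Subtype.val) hc
      simpa using this)
  have kill21 : (∃ σ : N, orderOf σ = 21) → False := by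
    intro hσ
    obtain ⟨z, hz⟩ := Cfsg.Agent.H257.El.Sit.exists_orderOf (N := N) (k := 21) hσ
    exact no21 z hz
  obtain ⟨g, hg, hr, hgc⟩ := S.exists_surv hT hna [] (by simp)
  have hg' := mem_of_chkSurv (L := [.alt 7, .alt 8, .alt 9, .alt 10, .alt 11, .psl 3 2, .psl 4 2, .psl 3 4, .psl 2 8,
    .psl 2 7, .psu 3 3, .psu 4 3, .psu 3 5, .m22, .j2]) (by decide +kernel) hg
  simp only [List.mem_cons, List.not_mem_nil, or_false] at hg'
  rcases hg' with rfl | rfl | rfl | rfl | rfl | rfl | rfl | rfl | rfl | rfl | rfl | rfl | rfl | rfl | rfl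
  · -- `A7`
    have hgc' : Nat.card N = 2520 := by rw [hgc]; decide +kernel
    obtain ⟨e⟩ := hr
    have hl : ∀ x : N, orderOf x ∈ [1, 2, 3, 4, 5, 6, 7] :=
      Cfsg.Agent.H251.Der.mem_of_equiv e Cfsg.Agent.H251.Der.alt_seven
    exact key9 (by rw [hgc']) (by rw [hgc']; norm_num) (iso_of_list hl (by decide))
      (fun w hw => by have := hl w; rw [hw] at this; simp at this)
  · -- `A8`
    have hgc' : Nat.card N = 20160 := by rw [hgc]; decide +kernel
    obtain ⟨e⟩ := hr
    have hl : ∀ x : N, orderOf x ∈ [1, 2, 3, 4, 5, 6, 7, 15] :=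
      Cfsg.Agent.H251.Der.mem_of_equiv e Cfsg.Agent.H251.Der.alt_eight
    exact key9 (by rw [hgc']) (by rw [hgc']; norm_num) (iso_of_list hl (by decide))
      (fun w hw => by have := hl w; rw [hw] at this; simp at this)
  · -- `A9`
    have hgc' : Nat.card N = 181440 := by rw [hgc]; decide +kernel
    obtain ⟨e⟩ := hr
    exact keyR (by rw [hgc']; norm_num) (by rw [hgc']; norm_num)
      (iso_of_list (Cfsg.Agent.H251.Der.mem_of_equiv e nine_alt) (by decide))
  · -- `A10`
    obtain ⟨e⟩ := hr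
    obtain ⟨σ, hσ⟩ := exists_21_10
    exact kill21 ⟨e.symm σ, by rw [MulEquiv.orderOf_eq, hσ]⟩
  · -- `A11`
    obtain ⟨e⟩ := hr
    obtain ⟨σ, hσ⟩ := exists_21_11
    exact kill21 ⟨e.symm σ, by rw [MulEquiv.orderOf_eq, hσ]⟩
  · -- `L3(2)`
    have hgc' : Nat.card N = 168 := by rw [hgc]; decide +kernel
    obtain ⟨F, _, _, hF, ⟨e⟩⟩ := hr
    have hl : ∀ x : N, orderOf x ∈ [1, 2, 3, 4, 7] := Cfsg.Agent.H251.Der.mem_of_equiv e (l32 hF)
    exact key9 (by rw [hgc']) (by rw [hgc']; norm_num) (iso_of_list hl (by decide))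
      (fun w hw => by have := hl w; rw [hw] at this; simp at this)
  · -- `L4(2)`
    have hgc' : Nat.card N = 20160 := by rw [hgc]; decide +kernel
    have hl := l42 hr
    refine key9 (by rw [hgc']) (by rw [hgc']; norm_num) ?_ ?_
    · intro p hp hp7 z hz
      obtain ⟨m, hm, hd⟩ := hl z
      rw [hz] at hd
      have h2 := hp.two_le
      have h7m : 7 ∣ m := (dvd_mul_right 7 p).trans hd
      simp only [List.mem_cons, List.not_mem_nil, or_false] at hm
      rcases hm with rfl | rfl | rfl | rfl | rfl | rfl | rfl | rfl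
      all_goals
        have h3 := Nat.le_of_dvd (by norm_num) hd
        omega
    · intro w hw
      obtain ⟨m, hm, hd⟩ := hl w
      rw [hw] at hd
      simp only [List.mem_cons, List.not_mem_nil, or_false] at hm
      rcases hm with rfl | rfl | rfl | rfl | rfl | rfl | rfl | rfl <;> exact absurd hd (by norm_num)
  · -- `L3(4)`
    have hgc' : Nat.card N = 20160 := by rw [hgc]; decide +kernel
    obtain ⟨F, _, _, hF, ⟨e⟩⟩ := hr
    have hl : ∀ x : N, orderOf x ∈ [1, 2, 3, 4, 5, 7] :=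
      Cfsg.Agent.H251.Der.mem_of_equiv e (Cfsg.Agent.H251.Der.l34 hF)
    exact key9 (by rw [hgc']) (by rw [hgc']; norm_num) (iso_of_list hl (by decide))
      (fun w hw => by have := hl w; rw [hw] at this; simp at this)
  · -- `L2(8)`
    have hgc' : Nat.card N = 504 := by rw [hgc]; decide +kernel
    obtain ⟨F, _, _, hF, ⟨e⟩⟩ := hr
    refine keyR (by rw [hgc']) (by rw [hgc']; norm_num) fun p hp hp7 z hz => ?_
    have h1 := (Cfsg.Agent.H681.Der.Psl8.spec hF (7 * p)).1 ⟨e z, by rw [MulEquiv.orderOf_eq, hz]⟩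
    have h2 := hp.two_le
    rcases h1 with h1 | h1 | h1
    · have := Nat.le_of_dvd (by norm_num) h1
      omega
    · have := Nat.le_of_dvd (by norm_num) h1
      omega
    · have := Nat.le_of_dvd (by norm_num) h1
      omega
  · -- `L2(7)`
    have hgc' : Nat.card N = 168 := by rw [hgc]; decide +kernel
    obtain ⟨F, _, _, hF, ⟨e⟩⟩ := hr
    have key7 : ∀ k : ℕ, 7 < k → ∀ z : N, orderOf z ≠ k := by
      intro k hk z hz
      have h1 := (Cfsg.Agent.H681.Der.Psl7.spec hF k).1 ⟨e z, by rw [MulEquiv.orderOf_eq, hz]⟩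
      rcases h1 with h1 | h1 | h1
      · have := Nat.le_of_dvd (by norm_num) h1
        omega
      · have := Nat.le_of_dvd (by norm_num) h1
        omega
      · have := Nat.le_of_dvd (by norm_num) h1
        omega
    exact key9 (by rw [hgc']) (by rw [hgc']; norm_num) (fun p hp hp7 z => key7 _ (by have := hp.two_le; omega) z)
      (key7 9 (by norm_num))
  · -- `U3(3)`
    have hgc' : Nat.card N = 6048 := by rw [hgc]; decide +kernel
    have hsim := hT.simple
    have hl := Cfsg.Agent.H251.Der.ord_6048 tab known hna hgc'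
    exact key9 (by rw [hgc']) (by rw [hgc']; norm_num) (iso_of_list hl (by decide))
      (fun w hw => by have := hl w; rw [hw] at this; simp at this)
  · -- `U4(3)`
    have hgc' : Nat.card N = 3265920 := by rw [hgc]; decide +kernel
    have hOd : Nat.card O ∣ 275 := S.core_dvd (N := N) (by rw [hgc'])
    have hid : N.index ∣ 275 := S.index_dvd' (O := O) (by rw [hgc'])
    obtain ⟨w, hw⟩ := Sit.exists_of_coprime hy (O := O) (N := N)
      (by rw [hym]; exact Nat.Coprime.coprime_dvd_right hOd (by norm_num)) hNn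
      (by rw [hym]; exact Nat.Coprime.coprime_dvd_right hid (by norm_num))
    rw [hym] at hw
    obtain ⟨F, _, _, hF, ⟨e⟩⟩ := hr
    exact no_14_u43 hF (by rw [← hgc', Nat.card_congr e.toEquiv]) (e w) (by rw [MulEquiv.orderOf_eq, hw])
  · -- `U3(5)`
    have hgc' : Nat.card N = 126000 := by rw [hgc]; decide +kernel
    have h9 : ∀ w : N, orderOf w ≠ 9 := by
      obtain ⟨F, _, _, hF, ⟨e⟩⟩ := hr
      exact fun w hw => Cfsg.Agent.H455.NoNine.psu_three_five hF (e w) (by rw [MulEquiv.orderOf_eq, hw])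
    exact key9 (by rw [hgc']) (by rw [hgc']; norm_num) (iso_7_u35 hr) h9
  · -- `M22`
    have hgc' : Nat.card N = 443520 := hgc
    have h11' : Fact (Nat.Prime 11) := ⟨by norm_num⟩
    obtain ⟨z, hz⟩ := exists_prime_orderOf_dvd_card' (G := R) 11 ((by rw [hgc']; norm_num : 11 ∣ Nat.card N).trans hNM)
    exact inc_11_14 tab known h R hR z z.2 y hy (by rw [Subgroup.orderOf_coe, hz]) hym
  · -- `J2`
    have hgc' : Nat.card N = 604800 := hgc
    exact keyR (by rw [hgc']; norm_num) (by rw [hgc']; norm_num) (orders_j2 hr)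

include tab known in
/-- **`McL`** -/
theorem noTwo_mcl (h : Spor.IsoMcL T) : Cfsg.Agent.H278.Cov.NoTwo T := by
  have hfin := finite h
  have hc := Cfsg.Agent.NotCT.Orders.mcl h
  exact noTwo_of_orders (Cfsg.Agent.H257.Cov.exists_of_prime_dvd (p := 11) (by norm_num) (by rw [hc]; norm_num))
    (exists_ord h (m := 14) (by simp)) (Cfsg.Agent.H998.SpSmallF.mcl_nine h) (inc_11_14 tab known h)
    (inc_14_9 tab known h) (inc_11_9 tab known h)

end McL

end Cfsg.Agent.H966.Cov
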