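import Cfsg.Agent.H966.Cov.SuzA
import Cfsg.Agent.H455.NoNine

/-!
# S2499: `Suz` is not the union of the conjugates of two proper subgroups (helper966)

Elements of orders 13, 11, 5 (two classes), 7, 21, 14, 9.
-/

set_option autoImplicit false

namespace Cfsg.Agent.H966.Cov

open Subgroup Cfsg
open Cfsg.Agent.OrdDiv Cfsg.Agent.H966.Der Cfsg.Agent.H439.Der
open Cfsg.Agent.H257.El hiding Sit
open Cfsg.Agent.H278.Cov (Av NoTwo not_av)

universe u

namespace Suz

open Cfsg.Agent.H966.Der.Suz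

variable {T : Type u} [Group T]

theorem m22_nine' {S : Type*} [Group S] (h : Spor.IsoM22 S) (z : S) : orderOf z ≠ 9 := by
  obtain ⟨e⟩ := h
  intro hz
  exact Cfsg.Agent.H455.NoNine.m22 (e z) (by rw [MulEquiv.orderOf_eq, hz])

variable (tab : OrderTable.{u}) (known : Known.{u})

include tab known in
/-- not both 11 and 13 -/
theorem not_both (h : Spor.IsoSuz T) {R : Subgroup T} (hR : R ≠ ⊤) (h11 : 11 ∣ Nat.card R) (h13 : 13 ∣ Nat.card R) :
    False := by
  have hfin := finite h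
  have hc := Cfsg.Agent.NotCT.Orders.suz h
  have S : Sit T 448345497600 Suz.l 13 R := ⟨tab, known, hc, Suz.valid_l, by norm_num, by norm_num, h13, hR⟩
  obtain ⟨O, hO, N, hT⟩ := S.exists_top
  have hNn := hT.normal
  have hd := S.dvd_simple hT (s := 11) (by norm_num) (iso_13 h 11 (by norm_num) (by norm_num)) (by decide +kernel) h11
  have hna := Cfsg.Agent.H257.El.Sit.not_comm_of_dvd hT (by norm_num) (by norm_num) hd
  obtain ⟨g, hg, hr, hgc⟩ := S.exists_surv hT hna [11] (by simpa using hd)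
  have hg' := mem_of_chkSurv (L := [.alt 13]) (by decide +kernel) hg
  simp only [List.mem_cons, List.not_mem_nil, or_false] at hg'
  subst hg'
  obtain ⟨e⟩ := hr
  obtain ⟨σ, hσ⟩ := exists_35_13
  obtain ⟨z, hz⟩ := Cfsg.Agent.H257.El.Sit.exists_orderOf (N := N) (k := 35)
    ⟨e.symm σ, by rw [MulEquiv.orderOf_eq, hσ]⟩
  exact no_7 h (k := 5) (by norm_num) (by norm_num) z hz

include tab known in
/-- the situation for `r = 11` -/
theorem eleven (h : Spor.IsoSuz T) {R : Subgroup T} (hR : R ≠ ⊤) (h11 : 11 ∣ Nat.card R) :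
    ∃ (O : Subgroup R) (_ : O.Normal) (N : Subgroup (R ⧸ O)), Top R 11 O N ∧ ¬ 5 ∣ Nat.card O ∧
      ((Nat.card N = 11 ∧ N.index ∣ 10) ∨ (N.index ∣ 2 ∧ (Nat.card N = 660 ∨ Nat.card N = 13685760 ∨
        Nat.card N = 7920 ∨ Nat.card N = 95040 ∨ (Real .m22 N ∧ Nat.card N = 443520)))) := by
  have hfin := finite h
  have hc := Cfsg.Agent.NotCT.Orders.suz h
  have S : Sit T 448345497600 Suz.l 11 R := ⟨tab, known, hc, Suz.valid_l, by norm_num, by norm_num, h11, hR⟩
  obtain ⟨O, hO, N, hT⟩ := S.exists_top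
  have hNn := hT.normal
  have i11 := iso_11 h
  have hO5 : ¬ 5 ∣ Nat.card O := hT.not_dvd_core (by norm_num) (by norm_num)
    (Cfsg.Agent.H257.El.Sit.noR (i11 5 (by norm_num) (by norm_num))) fun b hb hd => by
      have h1 := hd.trans S.dvd_n
      have h2 : b ≤ 2 := by
        by_contra h3
        have := (pow_dvd_pow 5 (show 3 ≤ b by omega)).trans h1
        norm_num at this
      interval_cases b <;> norm_num
  obtain ⟨i1, i2⟩ := Cfsg.Agent.H257.Cov.index_dvd_E i11 (by rw [hc]; norm_num) (by rw [hc]; norm_num) hT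
  have hE : Cfsg.Agent.H257.Cov.E (Nat.card T) 11 = 10 := by rw [hc]; rfl
  rw [hE] at i1 i2
  by_cases hna : ∀ a b : N, a * b = b * a
  · exact ⟨O, hO, N, hT, hO5, Or.inl ⟨hT.card_of_comm hna, i1 hna⟩⟩
  have i3 := i2 hna
  obtain ⟨g, hg, hr, hgc⟩ := S.exists_surv hT hna [] (by simp)
  have hg' := mem_of_chkSurv (L := [.alt 11, .alt 12, .alt 13, .psl 2 11, .psu 5 2, .m11, .m12, .m22])
    (by decide +kernel) hg
  have kill35 : (∃ σ : N, orderOf σ = 35) → False := by
    intro hσ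
    obtain ⟨z, hz⟩ := Cfsg.Agent.H257.El.Sit.exists_orderOf (N := N) (k := 35) hσ
    exact no_7 h (k := 5) (by norm_num) (by norm_num) z hz
  -- the index
  have hi : Cfsg.Agent.H257.Cov.E (Nat.card N) 11 = 5 → N.index ∣ 2 := by
    intro h5
    rw [h5] at i3
    have h1 : 5 * N.index ∣ 5 * 2 := i3
    exact Nat.dvd_of_mul_dvd_mul_left (by norm_num) h1
  simp only [List.mem_cons, List.not_mem_nil, or_false] at hg'
  rcases hg' with rfl | rfl | rfl | rfl | rfl | rfl | rfl | rfl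
  · -- `A11`
    exfalso
    have hgc' : Nat.card N = 19958400 := by rw [hgc]; decide +kernel
    have hO2 : ¬ 2 ∣ Nat.card O := S.not_dvd_core hT (s := 2) (m := 22464) (k := 6) (by norm_num) (by norm_num)
      (i11 2 (by norm_num) (by norm_num)) (by rw [hgc']) (by norm_num) (by decide)
    have hO3 : ¬ 3 ∣ Nat.card O := S.not_dvd_core hT (s := 3) (m := 22464) (k := 3) (by norm_num) (by norm_num)
      (i11 3 (by norm_num) (by norm_num)) (by rw [hgc']) (by norm_num) (by decide)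
    have hO13 : ¬ 13 ∣ Nat.card O := S.not_dvd_core hT (s := 13) (m := 22464) (k := 1) (by norm_num) (by norm_num)
      (i11 13 (by norm_num) (by norm_num)) (by rw [hgc']) (by norm_num) (by decide)
    have hOd : Nat.card O ∣ 22464 := S.core_dvd (N := N) (by rw [hgc'])
    have hO1 : Nat.card O = 1 := by
      have h1 : Nat.Coprime (Nat.card O) 22464 := by
        rw [show 22464 = 2 ^ 6 * 3 ^ 3 * 13 by norm_num]
        exact (((Nat.Prime.coprime_iff_not_dvd Nat.prime_two).2 hO2).symm.pow_right 6 |>.mul_right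
          (((Nat.Prime.coprime_iff_not_dvd Nat.prime_three).2 hO3).symm.pow_right 3)).mul_right
          ((Nat.Prime.coprime_iff_not_dvd (by norm_num)).2 hO13).symm
      exact Nat.Coprime.eq_one_of_dvd h1 hOd
    obtain ⟨e⟩ := hr
    obtain ⟨φ, hφ⟩ := exists_embed (T := T) (M := R) hO1 (N := N)
    exact no_alt h (φ.comp e.symm.toMonoidHom) (hφ.comp e.symm.injective)
  · -- `A12`
    exfalso
    obtain ⟨e⟩ := hr
    obtain ⟨σ, hσ⟩ := exists_35_12
    exact kill35 ⟨e.symm σ, by rw [MulEquiv.orderOf_eq, hσ]⟩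
  · -- `A13`
    exfalso
    obtain ⟨e⟩ := hr
    obtain ⟨σ, hσ⟩ := exists_35_13
    exact kill35 ⟨e.symm σ, by rw [MulEquiv.orderOf_eq, hσ]⟩
  · have hgc' : Nat.card N = 660 := by rw [hgc]; decide +kernel
    exact ⟨O, hO, N, hT, hO5, Or.inr ⟨hi (by rw [hgc']; rfl), Or.inl hgc'⟩⟩
  · have hgc' : Nat.card N = 13685760 := by rw [hgc]; decide +kernel
    exact ⟨O, hO, N, hT, hO5, Or.inr ⟨hi (by rw [hgc']; rfl), Or.inr (Or.inl hgc')⟩⟩
  · have hgc' : Nat.card N = 7920 := hgc
    exact ⟨O, hO, N, hT, hO5, Or.inr ⟨hi (by rw [hgc']; rfl), Or.inr (Or.inr (Or.inl hgc'))⟩⟩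
  · have hgc' : Nat.card N = 95040 := hgc
    exact ⟨O, hO, N, hT, hO5, Or.inr ⟨hi (by rw [hgc']; rfl), Or.inr (Or.inr (Or.inr (Or.inl hgc')))⟩⟩
  · have hgc' : Nat.card N = 443520 := hgc
    exact ⟨O, hO, N, hT, hO5, Or.inr ⟨hi (by rw [hgc']; rfl), Or.inr (Or.inr (Or.inr (Or.inr ⟨hr, hgc'⟩)))⟩⟩

include tab known in
/-- `11 ∣ |R|`: the Sylow 5-subgroups are cyclic -/
theorem not_25 (h : Spor.IsoSuz T) {R : Subgroup T} (hR : R ≠ ⊤) (h11 : 11 ∣ Nat.card R) : ¬ 25 ∣ Nat.card R := by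
  intro h25
  have hfin := finite h
  obtain ⟨O, hO, N, hT, hO5, hN⟩ := eleven tab known h hR h11
  rw [← card_quot_mul O, ← Subgroup.card_mul_index N] at h25
  have c5 : Nat.Coprime 5 (Nat.card O) := (Nat.Prime.coprime_iff_not_dvd (by norm_num)).2 hO5
  have h1 : 25 ∣ Nat.card N * N.index := by
    refine Nat.Coprime.dvd_of_dvd_mul_right ?_ h25
    rw [show 25 = 5 * 5 by norm_num]
    exact c5.mul_left c5
  rcases hN with ⟨h2, h3⟩ | ⟨h3, h2⟩
  · rw [h2] at h1
    have h4 := h1.trans (Nat.mul_dvd_mul_left _ h3)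
    norm_num at h4
  · have h4 := h1.trans (Nat.mul_dvd_mul_left _ h3)
    rcases h2 with h2 | h2 | h2 | h2 | ⟨-, h2⟩ <;> rw [h2] at h4 <;> norm_num at h4

include tab known in
/-- `77 ∣ |R|`: no elements of order 9, 21 -/
theorem of_77 (h : Spor.IsoSuz T) {R : Subgroup T} (hR : R ≠ ⊤) (h11 : 11 ∣ Nat.card R) (h7 : 7 ∣ Nat.card R) :
    (∀ m ∈ R, orderOf m ≠ 9) ∧ ∀ m ∈ R, orderOf m ≠ 21 := by
  have hfin := finite h
  have hc := Cfsg.Agent.NotCT.Orders.suz h
  have S : Sit T 448345497600 Suz.l 11 R := ⟨tab, known, hc, Suz.valid_l, by norm_num, by norm_num, h11, hR⟩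
  obtain ⟨O, hO, N, hT, hO5, hN⟩ := eleven tab known h hR h11
  have hNn := hT.normal
  have i11 := iso_11 h
  have hd7 := S.dvd_simple hT (s := 7) (by norm_num) (i11 7 (by norm_num) (by norm_num)) (by decide +kernel) h7
  rcases hN with ⟨h2, h3⟩ | ⟨hi2, h2⟩
  · rw [h2] at hd7
    norm_num at hd7
  obtain ⟨hr, hgc'⟩ : Real .m22 N ∧ Nat.card N = 443520 := by
    rcases h2 with h2 | h2 | h2 | h2 | h2
    · rw [h2] at hd7; norm_num at hd7
    · rw [h2] at hd7; norm_num at hd7
    · rw [h2] at hd7; norm_num at hd7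
    · rw [h2] at hd7; norm_num at hd7
    · exact h2
  have hOd : Nat.card O ∣ 1010880 := S.core_dvd (N := N) (by rw [hgc'])
  have hO7 : ¬ 7 ∣ Nat.card O := fun h1 => by
    have := h1.trans hOd
    norm_num at this
  have hO3 : ¬ 3 ∣ Nat.card O := by
    intro h3
    have h3' : Fact (Nat.Prime 3) := ⟨Nat.prime_three⟩
    obtain ⟨S3⟩ : Nonempty (Sylow 3 O) := inferInstance
    obtain ⟨b, hb⟩ := IsPGroup.iff_card.1 S3.isPGroup'
    have hb1 : b ≠ 0 := by
      rintro rfl
      rw [pow_zero] at hb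
      have h4 := S3.card_eq_multiplicity
      rw [hb] at h4
      have h5 : 1 ≤ (Nat.card O).factorization 3 :=
        (Nat.prime_three.pow_dvd_iff_le_factorization (k := 1) (n := Nat.card O) Nat.card_pos.ne').1 (by rwa [pow_one])
      have h6 := Nat.one_lt_pow (n := (Nat.card O).factorization 3) (by omega) Nat.prime_three.one_lt
      omega
    have hb5 : b ≤ 5 := by
      by_contra hb5
      have h4 := (pow_dvd_pow 3 (show 6 ≤ b by omega)).trans ((hb ▸ Subgroup.card_subgroup_dvd_card _).trans hOd)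
      norm_num at h4
    obtain ⟨d, hd1, hd2, hd3⟩ := exists_fix (q := 11) (by norm_num) hT.dvdR O hT.core S3 (c := 11) (fun y hy => by
      rw [card_cent_of_noOrd hT.prime hT.sq (fun p hp hrp => Cfsg.Agent.H257.El.Sit.noR (i11 p hp hrp)) hy])
    obtain ⟨f, hf1, hf2, hf3⟩ := exists_fix (q := 7) (by norm_num) h7 O hO7 S3 (c := 84) (fun y hy => by
      have h4 := HN.cent_sub y
      obtain ⟨e⟩ := h
      rwa [HN.card_cent_map e (y : T), Cfsg.Agent.H805.NilSp.cent_seven_Suz
        (by rw [MulEquiv.orderOf_eq, Subgroup.orderOf_coe, hy])] at h4)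
    rw [hb] at hd1 hd3 hf1 hf3
    obtain ⟨j, -, hj⟩ := (Nat.dvd_prime_pow Nat.prime_three).1 hd1
    obtain ⟨k, -, hk⟩ := (Nat.dvd_prime_pow Nat.prime_three).1 hf1
    have hj0 : j = 0 := by
      by_contra hj2
      have h3 := (pow_dvd_pow 3 (show 1 ≤ j by omega)).trans (hj ▸ hd2)
      norm_num at h3
    have hk1 : k ≤ 1 := by
      by_contra hj2
      have h3 := (pow_dvd_pow 3 (show 2 ≤ k by omega)).trans (hk ▸ hf2)
      norm_num at h3
    subst hj hk hj0
    unfold Nat.ModEq at hd3 hf3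
    interval_cases k <;> interval_cases b <;> omega
  have c3 : Nat.Coprime 3 (Nat.card O) := (Nat.Prime.coprime_iff_not_dvd (by norm_num)).2 hO3
  have c7 : Nat.Coprime 7 (Nat.card O) := (Nat.Prime.coprime_iff_not_dvd (by norm_num)).2 hO7
  constructor
  · intro m hm hmo
    obtain ⟨w, hw⟩ := Sit.exists_of_coprime hm (O := O) (N := N)
      (by rw [hmo, show 9 = 3 * 3 by norm_num]; exact c3.mul_left c3) hNn
      (by rw [hmo]; exact Nat.Coprime.coprime_dvd_right hi2 (by norm_num))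
    exact m22_nine' hr w (by rw [hw, hmo])
  · intro m hm hmo
    obtain ⟨w, hw⟩ := Sit.exists_of_coprime hm (O := O) (N := N)
      (by rw [hmo, show 21 = 3 * 7 by norm_num]; exact c3.mul_left c7) hNn
      (by rw [hmo]; exact Nat.Coprime.coprime_dvd_right hi2 (by norm_num))
    exact no_21_m22 hr w (by rw [hw, hmo])

include tab known in
/-- `13 * 7 * 5 ∣ |R|`: no elements of order 9, 14 -/
theorem of_13 (h : Spor.IsoSuz T) {M : Subgroup T} (hM : M ≠ ⊤) (h13 : 13 ∣ Nat.card M) (h7 : 7 ∣ Nat.card M)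
    (h5 : 5 ∣ Nat.card M) : (∀ m ∈ M, orderOf m ≠ 9) ∧ ∀ m ∈ M, orderOf m ≠ 14 := by
  have hfin := Suz.finite h
  have hc := Cfsg.Agent.NotCT.Orders.suz h
  have no35 : ∀ z : T, orderOf z ≠ 7 * 5 := Suz.no_7 h (k := 5) (by norm_num) (by norm_num)
  have S : Sit T 448345497600 Suz.l 13 M := ⟨tab, known, hc, Suz.valid_l, by norm_num, by norm_num, h13, hM⟩
  obtain ⟨O, hO, N, hT⟩ := S.exists_top
  have hNn := hT.normal
  have i13 := Suz.iso_13 h
  have hd7 := S.dvd_simple hT (s := 7) (by norm_num) (i13 7 (by norm_num) (by norm_num)) (by decide +kernel) h7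
  have hd5 := S.dvd_simple hT (s := 5) (by norm_num) (i13 5 (by norm_num) (by norm_num)) (by decide +kernel) h5
  have hna := Cfsg.Agent.H257.El.Sit.not_comm_of_dvd hT (by norm_num) (by norm_num) hd7
  obtain ⟨g, hg, hr, hgc⟩ := S.exists_surv hT hna [7, 5] (by simp [hd7, hd5])
  have hg' := mem_of_chkSurv (L := [.alt 13, .psl 2 64, .psl 3 9, .g2 4, .sz 8]) (by decide +kernel) hg
  have hne : Nat.card N ≠ 13 := by
    intro h1
    rw [h1] at hd7
    norm_num at hd7
  have hi := S.index_dvd hT i13 hne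
  simp only [List.mem_cons, List.not_mem_nil, or_false] at hg'
  rcases hg' with rfl | rfl | rfl | rfl | rfl
  · -- `A13`
    exfalso
    obtain ⟨e⟩ := hr
    obtain ⟨σ, hσ⟩ := exists_35_13
    obtain ⟨z, hz⟩ := Cfsg.Agent.H257.El.Sit.exists_orderOf (N := N) (k := 35)
      ⟨e.symm σ, by rw [MulEquiv.orderOf_eq, hσ]⟩
    exact no35 z hz
  · exfalso
    have hgc' : Nat.card N = 262080 := by rw [hgc]; decide +kernel
    rw [hgc'] at hi
    have h1 := (dvd_mul_left _ _).trans hi
    norm_num at h1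
  · exfalso
    have hgc' : Nat.card N = 42456960 := by rw [hgc]; decide +kernel
    rw [hgc'] at hi
    have h1 := (dvd_mul_left _ _).trans hi
    norm_num at h1
  · -- `G2(4)`
    have hgc' : Nat.card N = 251596800 := by rw [hgc]; decide +kernel
    rw [hgc'] at hi
    norm_num at hi
    have hi := eq_one_of_mul_dvd (by norm_num) hi
    have hOd : Nat.card O ∣ 1782 := S.core_dvd (N := N) (by rw [hgc'])
    have hO2 : ¬ 2 ∣ Nat.card O := S.not_dvd_core hT (s := 2) (m := 1782) (k := 1) (by norm_num) (by norm_num)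
      (i13 2 (by norm_num) (by norm_num)) (by rw [hgc']) (by norm_num) (by decide)
    have hO7 : ¬ 7 ∣ Nat.card O := fun h1 => by
      have := h1.trans hOd
      norm_num at this
    have hO3 : ¬ 3 ∣ Nat.card O := by
      intro h3
      have h3' : Fact (Nat.Prime 3) := ⟨Nat.prime_three⟩
      obtain ⟨S3⟩ : Nonempty (Sylow 3 O) := inferInstance
      obtain ⟨b, hb⟩ := IsPGroup.iff_card.1 S3.isPGroup'
      have hb1 : b ≠ 0 := by
        rintro rfl
        rw [pow_zero] at hb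
        have h4 := S3.card_eq_multiplicity
        rw [hb] at h4
        have h5 : 1 ≤ (Nat.card O).factorization 3 :=
          (Nat.prime_three.pow_dvd_iff_le_factorization (k := 1) (n := Nat.card O) Nat.card_pos.ne').1 (by rwa [pow_one])
        have h6 := Nat.one_lt_pow (n := (Nat.card O).factorization 3) (by omega) Nat.prime_three.one_lt
        omega
      have hb4 : b ≤ 4 := by
        by_contra hb5
        have h4 := (pow_dvd_pow 3 (show 5 ≤ b by omega)).trans ((hb ▸ Subgroup.card_subgroup_dvd_card _).trans hOd)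
        norm_num at h4
      obtain ⟨d, hd1, hd2, hd3⟩ := exists_fix (q := 13) (by norm_num) hT.dvdR O hT.core S3 (c := 13) (fun y hy => by
        have h4 := HN.cent_sub y
        obtain ⟨e⟩ := h
        rwa [HN.card_cent_map e (y : T), Cfsg.Agent.H153.Zeros.card_cent_suz
          (by rw [MulEquiv.orderOf_eq, Subgroup.orderOf_coe, hy])] at h4)
      obtain ⟨f, hf1, hf2, hf3⟩ := exists_fix (q := 7) (by norm_num) h7 O hO7 S3 (c := 84) (fun y hy => by
        have h4 := HN.cent_sub y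
        obtain ⟨e⟩ := h
        rwa [HN.card_cent_map e (y : T), Cfsg.Agent.H805.NilSp.cent_seven_Suz
          (by rw [MulEquiv.orderOf_eq, Subgroup.orderOf_coe, hy])] at h4)
      rw [hb] at hd1 hd3 hf1 hf3
      obtain ⟨j, -, hj⟩ := (Nat.dvd_prime_pow Nat.prime_three).1 hd1
      obtain ⟨k, -, hk⟩ := (Nat.dvd_prime_pow Nat.prime_three).1 hf1
      have hj0 : j = 0 := by
        by_contra hj2
        have h3 := (pow_dvd_pow 3 (show 1 ≤ j by omega)).trans (hj ▸ hd2)
        norm_num at h3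
      have hk1 : k ≤ 1 := by
        by_contra hj2
        have h3 := (pow_dvd_pow 3 (show 2 ≤ k by omega)).trans (hk ▸ hf2)
        norm_num at h3
      subst hj hk hj0
      unfold Nat.ModEq at hd3 hf3
      interval_cases k <;> interval_cases b <;> omega
    have c2 : Nat.Coprime 2 (Nat.card O) := (Nat.Prime.coprime_iff_not_dvd (by norm_num)).2 hO2
    have c3 : Nat.Coprime 3 (Nat.card O) := (Nat.Prime.coprime_iff_not_dvd (by norm_num)).2 hO3
    have c7 : Nat.Coprime 7 (Nat.card O) := (Nat.Prime.coprime_iff_not_dvd (by norm_num)).2 hO7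
    constructor
    · intro m hm hmo
      obtain ⟨w, hw⟩ := Sit.exists_of_coprime hm (O := O) (N := N)
        (by rw [hmo, show 9 = 3 * 3 by norm_num]; exact c3.mul_left c3) hNn
        (by rw [hi]; exact Nat.coprime_one_right _)
      exact Cfsg.Agent.H348.Der.SuzRow.no_9_g24 hr w (by rw [hw, hmo])
    · intro m hm hmo
      obtain ⟨w, hw⟩ := Sit.exists_of_coprime hm (O := O) (N := N)
        (by rw [hmo, show 14 = 2 * 7 by norm_num]; exact c2.mul_left c7) hNn
        (by rw [hi]; exact Nat.coprime_one_right _)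
      exact no_14_g24 tab hr w (by rw [hw, hmo])
  · exfalso
    have hgc' : Nat.card N = 29120 := by rw [hgc]; decide +kernel
    rw [hgc'] at hi
    have h1 := (dvd_mul_left _ _).trans hi
    norm_num at h1

include tab known in
/-- the case `11 ∣ |K|` -/
theorem aux (h : Spor.IsoSuz T) {H K : Subgroup T} (hH : H ≠ ⊤) (hK : K ≠ ⊤) (h11 : 11 ∣ Nat.card K) :
    ∃ x : T, Av x H ∧ Av x K := by
  have hfin := finite h
  have hc := Cfsg.Agent.NotCT.Orders.suz h
  by_contra hcon
  push Not at hcon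
  have ho : ∀ a z : T, orderOf (a * z * a⁻¹) = orderOf z := fun a z =>
    orderOf_injective (MulAut.conj a).toMonoidHom (MulAut.conj a).injective z
  -- an element order missing in `K` is in `H`
  have keyH : ∀ m : ℕ, (∃ x : T, orderOf x = m) → (∀ y ∈ K, orderOf y ≠ m) → ∃ y ∈ H, orderOf y = m := by
    rintro m ⟨x, rfl⟩ hm
    by_contra hne
    push Not at hne
    exact hcon x (Cfsg.Agent.H278.Cov.av_of_order hne) (Cfsg.Agent.H278.Cov.av_of_order hm)
  have keyK : ∀ m : ℕ, (∃ x : T, orderOf x = m) → (∀ y ∈ H, orderOf y ≠ m) → ∃ y ∈ K, orderOf y = m := by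
    rintro m ⟨x, rfl⟩ hm
    by_contra hne
    push Not at hne
    exact hcon x (Cfsg.Agent.H278.Cov.av_of_order hm) (Cfsg.Agent.H278.Cov.av_of_order hne)
  have hnot : ∀ (R : Subgroup T) (k : ℕ), ¬ k ∣ Nat.card R → ∀ m ∈ R, orderOf m ≠ k := fun R k hk m hm hmo => hk (by
    rw [← hmo]
    exact Subgroup.orderOf_dvd_natCard _ hm)
  have hdv : ∀ (R : Subgroup T) (k : ℕ), (∃ m ∈ R, orderOf m = k) → k ∣ Nat.card R := by
    rintro R k ⟨m, hm, rfl⟩
    exact Subgroup.orderOf_dvd_natCard _ hm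
  have E14 := exists_ord h Cfsg.Agent.H153.Zeros.ord_suz_14
  have E21 := exists_ord h Cfsg.Agent.H153.Zeros.ord_suz_21
  obtain ⟨x18, e18⟩ := exists_ord h Cfsg.Agent.H348.Der.SuzRow.ord_suz_18
  have E9 : ∃ x : T, orderOf x = 9 :=
    ⟨x18 ^ 2, by rw [orderOf_pow_of_dvd (by norm_num) (by rw [e18]; norm_num), e18]⟩
  have E13 : ∃ x : T, orderOf x = 13 :=
    Cfsg.Agent.H257.Cov.exists_of_prime_dvd (by norm_num) (by rw [hc]; norm_num)
  -- `13`
  have h13K : ¬ 13 ∣ Nat.card K := fun h13 => not_both tab known h hK h11 h13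
  have h13H : 13 ∣ Nat.card H := hdv H 13 (keyH 13 E13 (hnot K 13 h13K))
  -- `5`
  obtain ⟨x5, hx5, hx5K⟩ := Cfsg.Agent.H348.Der.SuzRow.exists_miss h (not_25 tab known h hK h11)
  have h5H : 5 ∣ Nat.card H := by
    have h1 : Av x5 K := fun g hg => hx5K (MulAut.conj g) hg
    have h2 : ¬ Av x5 H := fun h3 => hcon x5 h3 h1
    obtain ⟨g, hg⟩ := not_av h2
    rw [← hx5, ← ho g x5]
    exact Subgroup.orderOf_dvd_natCard _ hg
  -- `7`
  have h7H : 7 ∣ Nat.card H := by
    by_cases h7 : 7 ∣ Nat.card K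
    · exact (by norm_num : 7 ∣ 21).trans (hdv H 21 (keyH 21 E21 (of_77 tab known h hK h11 h7).2))
    · exact (by norm_num : 7 ∣ 21).trans (hdv H 21 (keyH 21 E21 (hnot K 21 fun h1 => h7 ((by norm_num : 7 ∣ 21).trans h1))))
  obtain ⟨h9, h14⟩ := of_13 tab known h hH h13H h7H h5H
  have h7K : 7 ∣ Nat.card K := (by norm_num : 7 ∣ 14).trans (hdv K 14 (keyK 14 E14 h14))
  obtain ⟨y, hy, hyo⟩ := keyK 9 E9 h9
  exact (of_77 tab known h hK h11 h7K).1 y hy hyo

include tab known in
/-- **`Suz`** -/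
theorem noTwo_suz (h : Spor.IsoSuz T) : NoTwo T := by
  have hfin := finite h
  have hc := Cfsg.Agent.NotCT.Orders.suz h
  intro H K hH hK
  obtain ⟨x, hx⟩ := Cfsg.Agent.H257.Cov.exists_of_prime_dvd (T := T) (p := 11) (by norm_num) (by rw [hc]; norm_num)
  have ho : ∀ a z : T, orderOf (a * z * a⁻¹) = orderOf z := fun a z =>
    orderOf_injective (MulAut.conj a).toMonoidHom (MulAut.conj a).injective z
  by_cases h1 : Av x H
  · by_cases h2 : Av x K
    · exact ⟨x, h1, h2⟩
    · obtain ⟨g, hg⟩ := not_av h2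
      refine aux tab known h hH hK ?_
      rw [← hx, ← ho g x]
      exact Subgroup.orderOf_dvd_natCard _ hg
  · obtain ⟨g, hg⟩ := not_av h1
    obtain ⟨z, hz1, hz2⟩ := aux tab known h hK hH (by
      rw [← hx, ← ho g x]
      exact Subgroup.orderOf_dvd_natCard _ hg)
    exact ⟨z, hz2, hz1⟩

end Suz

end Cfsg.Agent.H966.Cov
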