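import Cfsg.Agent.H966.Der.McLS
import Cfsg.Agent.H257.Cov.Star

/-!
# S2499, sporadic groups: tools (helper966)

* `exists_abelian` : an abelian subgroup of order `s ^ B` if `s` divides the order of the core
* `card_norm_of` : the normalizer of a subgroup of order `r` of the simple group at the top
-/

set_option autoImplicit false

namespace Cfsg.Agent.H966.Cov

open Subgroup Cfsg
open Cfsg.Agent.OrdDiv Cfsg.Agent.H257.El Cfsg.Agent.H966.Der

universe u

/-- if `s ∣ |O|`, no elements of order `r s`, and `s ^ b ≡ 1` modulo `r` only for `b = B`: an abelian subgroup of order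
`s ^ B` -/
theorem exists_abelian {R : Type*} [Group R] [Finite R] {r s B : ℕ} (hr : r.Prime) (hs : s.Prime) (hrs : r ≠ s)
    (hdvd : r ∣ Nat.card R) (O : Subgroup R) [O.Normal] (hO : ¬ r ∣ Nat.card O)
    (hno : ∀ z : R, orderOf z ≠ r * s) (hsO : s ∣ Nat.card O)
    (hB : ∀ b, 1 ≤ b → s ^ b ∣ Nat.card O → s ^ b % r = 1 → b = B) :
    ∃ P : Subgroup R, Nat.card P = s ^ B ∧ ∀ a ∈ P, ∀ b ∈ P, a * b = b * a := by
  have hr' : Fact r.Prime := ⟨hr⟩
  have hs' : Fact s.Prime := ⟨hs⟩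
  obtain ⟨S⟩ : Nonempty (Sylow s O) := inferInstance
  obtain ⟨y, hy, hyS⟩ := exists_normalizer hdvd O hO S
  set P : Subgroup R := (S : Subgroup O).map O.subtype with hP
  have hPp : IsPGroup s P := S.isPGroup'.map _
  have hPc : Nat.card P = Nat.card S := by
    rw [hP, Subgroup.card_map_of_injective O.subtype_injective]
  have key : ∀ Q : Subgroup R, Q ≤ P → Q ≠ ⊥ → y ∈ normalizer (Q : Set R) → Nat.card Q = s ^ B := by
    intro Q hQP hQ1 hyQ
    have hQp : IsPGroup s Q := hPp.to_le hQP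
    obtain ⟨b, hb⟩ := IsPGroup.iff_card.1 hQp
    have hb1 : 1 ≤ b := by
      rcases Nat.eq_zero_or_pos b with h0 | h0
      · exfalso
        apply hQ1
        rw [h0, pow_zero] at hb
        exact Subgroup.eq_bot_of_card_eq _ hb
      · exact h0
    have h1 : s ^ b % r = 1 := by
      by_contra hc
      obtain ⟨w, -, hw, hyw⟩ := exists_comm_of_normalizer hr hs hy hQp hyQ (by rw [hb]; exact hc)
      exact hno _ (orderOf_mul_of_comm hr hs hrs hy hw hyw)
    have h2 : s ^ b ∣ Nat.card O := by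
      rw [← hb]
      refine (Subgroup.card_dvd_of_le hQP).trans ?_
      rw [hPc]
      exact Subgroup.card_subgroup_dvd_card _
    rw [hb, hB b hb1 h2 h1]
  have hP1 : P ≠ ⊥ := by
    intro h0
    rw [h0, Subgroup.card_bot, S.card_eq_multiplicity] at hPc
    have h1 : 1 ≤ (Nat.card O).factorization s :=
      (hs.pow_dvd_iff_le_factorization (k := 1) (n := Nat.card O) Nat.card_pos.ne').1 (by rwa [pow_one])
    have h2 := Nat.one_lt_pow (n := (Nat.card O).factorization s) (by omega) hs.one_lt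
    omega
  set Z : Subgroup R := P ⊓ centralizer (P : Set R) with hZ
  have hZ1 : Z ≠ ⊥ := by
    have hnt : Nontrivial P := (Subgroup.nontrivial_iff_ne_bot P).2 hP1
    have hcen := hPp.center_nontrivial
    obtain ⟨⟨z, hz⟩, hz1⟩ := exists_ne (1 : center P)
    intro h0
    have h1 : (z : R) ∈ Z := ⟨z.2, mem_centralizer_iff.2 fun w hw =>
      congrArg Subtype.val ((mem_center_iff.1 hz) ⟨w, hw⟩)⟩
    rw [h0, mem_bot] at h1
    exact hz1 (Subtype.ext (Subtype.ext h1))
  have hyZ : y ∈ normalizer (Z : Set R) := by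
    have hconj : ∀ w : R, w ∈ P ↔ y * w * y⁻¹ ∈ P := mem_normalizer_iff.1 hyS
    rw [mem_normalizer_iff]
    intro w
    rw [hZ, mem_inf, mem_inf, ← hconj w]
    refine and_congr_right fun _ => ?_
    rw [mem_centralizer_iff, mem_centralizer_iff]
    constructor
    · intro hw v hv
      have h1 : y⁻¹ * v * y ∈ (P : Set R) := (hconj _).2 (by simpa [mul_assoc] using hv)
      have h2 := hw _ h1
      calc v * (y * w * y⁻¹) = y * ((y⁻¹ * v * y) * w) * y⁻¹ := by group
        _ = y * (w * (y⁻¹ * v * y)) * y⁻¹ := by rw [h2]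
        _ = y * w * y⁻¹ * v := by group
    · intro hw v hv
      have h2 := hw _ ((hconj v).1 hv)
      calc v * w = y⁻¹ * ((y * v * y⁻¹) * (y * w * y⁻¹)) * y := by group
        _ = y⁻¹ * ((y * w * y⁻¹) * (y * v * y⁻¹)) * y := by rw [h2]
        _ = w * v := by group
  have hPB := key P le_rfl hP1 hyS
  have hZB := key Z inf_le_left hZ1 hyZ
  have hZP : Z = P := Subgroup.eq_of_le_of_card_ge inf_le_left (by rw [hPB, hZB])
  refine ⟨P, hPB, fun a ha b hb => ?_⟩
  rw [← hZP] at hb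
  exact (mem_centralizer_iff.1 hb.2) a ha

/-- a prime divisor of `|N_N(⟨y⟩)|`, from the order of `N` (`r` isolated in `N`) -/
theorem not_dvd_index_mod {R : Type*} [Group R] [Finite R] {r s e : ℕ} {O : Subgroup R} [O.Normal]
    {N : Subgroup (R ⧸ O)} (hT : Top R r O N) (hs : s.Prime) (hrs : r ≠ s) (hno : ∀ z : R, orderOf z ≠ r * s)
    (hs2 : ¬ s ^ 2 ∣ r - 1) (hiso : ∀ p : ℕ, p.Prime → r ≠ p → ∀ z : N, orderOf z ≠ r * p)
    (hmod : (Nat.card N / r) % r = e) (he : s ∣ e) (hne : Nat.card N ≠ r) : ¬ s ∣ N.index := by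
  have hNn := hT.normal
  have hr' : Fact r.Prime := ⟨hT.prime⟩
  have hN2 : ¬ r ^ 2 ∣ Nat.card N := fun h2 => hT.sq' (h2.trans (Subgroup.card_subgroup_dvd_card N))
  obtain ⟨y, hy⟩ := exists_prime_orderOf_dvd_card' (G := N) r hT.dvd
  have hnm := (card_norm_mod hT.prime hN2 hne (card_cent_of_noOrd hT.prime hN2 hiso hy)).1
  rw [hmod] at hnm
  exact not_dvd_index_of (r := r) hT.prime hs hrs N hT.dvd hN2 (Top.noQuot O hno) hs2 hy
    (by rw [hnm]; exact he.mul_left _)

/-- a real element of order 7, lifted to `R` -/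
theorem exists_real_of {R : Type*} [Group R] [Finite R] {O : Subgroup R} [O.Normal]
    {N : Subgroup (R ⧸ O)} (hT : Top R 7 O N) (hmod : 2 ∣ (Nat.card N / 7) % 7) (hne : Nat.card N ≠ 7)
    (hiso : ∀ p : ℕ, p.Prime → 7 ≠ p → ∀ z : N, orderOf z ≠ 7 * p) :
    ∃ x c : R, orderOf x = 7 ∧ c * x * c⁻¹ = x⁻¹ := by
  have hN2 : ¬ 7 ^ 2 ∣ Nat.card N := fun h2 => hT.sq' (h2.trans (Subgroup.card_subgroup_dvd_card N))
  obtain ⟨y, g, hy, hg⟩ := exists_real hT.dvd hN2 hne hiso hmod
  exact lift_real (by norm_num) hT.sq O (y := (y : R ⧸ O)) (g := (g : R ⧸ O))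
    (by rw [Subgroup.orderOf_coe, hy]) (by
      have := congrArg (Subtype.val) hg
      simpa using this)

end Cfsg.Agent.H966.Cov
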