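import Cfsg.Agent.H348.Der.SuzRow
import Cfsg.Agent.H966.Cov.Tools

/-!
# S2499, `Suz`: `A11` is not a subgroup (helper966)
-/

set_option autoImplicit false

namespace Cfsg.Agent.H966.Cov

open Subgroup Cfsg
open Cfsg.Agent.OrdDiv Cfsg.Agent.H966.Der Cfsg.Agent.H439.Der
open Cfsg.Agent.H257.El hiding Sit

universe u

namespace Suz

open Equiv

/-- `(0 1)(2 3)` -/
def pt : Perm (Fin 11) := swap 0 1 * swap 2 3
/-- `(0 2)(1 3)` -/
def pa : Perm (Fin 11) := swap 0 2 * swap 1 3
/-- `(0 1)(9 10)` -/
def pb : Perm (Fin 11) := swap 0 1 * swap 9 10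
/-- `(4 5 6 7 8)` -/
def px : Perm (Fin 11) := List.formPerm [4, 5, 6, 7, 8]
/-- `(4 5 6 7 8 9 10)` -/
def py : Perm (Fin 11) := List.formPerm [4, 5, 6, 7, 8, 9, 10]

/-- order 4 -/
def pc : Perm (Fin 11) := pa * pb

theorem order_pt : orderOf pt = 2 := orderOf_eq_prime (by decide +kernel) (by decide +kernel)
theorem order_pa : orderOf pa = 2 := orderOf_eq_prime (by decide +kernel) (by decide +kernel)
theorem order_pc : orderOf pc = 4 := by
  have : Fact (Nat.Prime 2) := ⟨Nat.prime_two⟩
  exact orderOf_eq_prime_pow (p := 2) (n := 1) (by decide +kernel) (by decide +kernel)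
theorem order_px : orderOf px = 5 := by
  have : Fact (Nat.Prime 5) := ⟨by norm_num⟩
  exact orderOf_eq_prime (by decide +kernel) (by decide +kernel)
theorem order_py : orderOf py = 7 := by
  have : Fact (Nat.Prime 7) := ⟨by norm_num⟩
  exact orderOf_eq_prime (by decide +kernel) (by decide +kernel)

variable {T : Type u} [Group T]

/-- **no `A11`** -/
theorem no_alt [Finite T] (h : Spor.IsoSuz T) (φ : alternatingGroup (Fin 11) →* T) (hφ : Function.Injective φ) :
    False := by
  have ht : pt ∈ alternatingGroup (Fin 11) := Perm.mem_alternatingGroup.2 (by decide +kernel)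
  have hx : px ∈ alternatingGroup (Fin 11) := Perm.mem_alternatingGroup.2 (by decide +kernel)
  have hy : py ∈ alternatingGroup (Fin 11) := Perm.mem_alternatingGroup.2 (by decide +kernel)
  have hxt : px * pt = pt * px := by decide +kernel
  have hyt : py * pt = pt * py := by decide +kernel
  have hc : ∀ {a b : Perm (Fin 11)} (ha : a ∈ alternatingGroup (Fin 11)) (hb : b ∈ alternatingGroup (Fin 11)),
      a * b = b * a → φ ⟨a, ha⟩ * φ ⟨b, hb⟩ = φ ⟨b, hb⟩ * φ ⟨a, ha⟩ := by
    intro a b ha hb hab
    rw [← map_mul, ← map_mul]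
    congr 1
    exact Subtype.ext hab
  have ho : ∀ {a : Perm (Fin 11)} (ha : a ∈ alternatingGroup (Fin 11)), orderOf (φ ⟨a, ha⟩) = orderOf a := by
    intro a ha
    rw [orderOf_injective φ hφ, Subgroup.orderOf_mk]
  have ha : pa ∈ alternatingGroup (Fin 11) := Perm.mem_alternatingGroup.2 (by decide +kernel)
  have hd : pc ∈ alternatingGroup (Fin 11) := Perm.mem_alternatingGroup.2 (by decide +kernel)
  have hat : pa * pt = pt * pa := by decide +kernel
  have hax : pa * px = px * pa := by decide +kernel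
  have hdt : pc * pt = pt * pc := by decide +kernel
  have hdx : pc * px = px * pc := by decide +kernel
  have hinv : pa * pc * pa⁻¹ = pc⁻¹ := by decide +kernel
  set a : T := φ ⟨pa, ha⟩ with hadef
  set c : T := φ ⟨pc, hd⟩ with hcdef
  have hco : orderOf c = 4 := by rw [hcdef, ho hd, order_pc]
  have hao : orderOf a = 2 := by rw [hadef, ho ha, order_pa]
  have hac : a ∉ zpowers c := by
    classical
    intro hm
    rw [mem_zpowers_iff_mem_range_orderOf, hco] at hm
    obtain ⟨k, hk, hka⟩ := Finset.mem_image.1 hm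
    rw [hcdef, hadef, ← map_pow] at hka
    have h1 : pc ^ k = pa := congrArg Subtype.val (hφ hka)
    rw [Finset.mem_range] at hk
    interval_cases k
    · revert h1; decide +kernel
    · revert h1; decide +kernel
    · revert h1; decide +kernel
    · revert h1; decide +kernel
  have hconj : a * c * a⁻¹ = c⁻¹ := by
    rw [hadef, hcdef, ← map_inv, ← map_inv, ← map_mul, ← map_mul]
    congr 1
    exact Subtype.ext hinv
  have hle : zpowers a ≤ normalizer ((zpowers c : Subgroup T) : Set T) := by
    rw [zpowers_le]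
    exact mem_normalizer_of (by rw [hconj]; exact inv_mem (mem_zpowers c))
  have hS : IsPGroup 2 ↥(zpowers a ⊔ zpowers c) :=
    IsPGroup.to_sup_of_normal_right' (IsPGroup.of_card (n := 1) (by rw [Nat.card_zpowers, hao, pow_one]))
      (IsPGroup.of_card (n := 2) (by rw [Nat.card_zpowers, hco]; norm_num)) hle
  have hcent : ∀ w : T, a * w = w * a → c * w = w * c → ∀ s ∈ zpowers a ⊔ zpowers c, s * w = w * s := by
    intro w haw hcw s hs
    have h1 : zpowers a ⊔ zpowers c ≤ centralizer ({w} : Set T) := sup_le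
      (by rw [zpowers_le]; exact mem_centralizer_singleton_iff.2 haw)
      (by rw [zpowers_le]; exact mem_centralizer_singleton_iff.2 hcw)
    exact mem_centralizer_singleton_iff.1 (h1 hs)
  have h4 := Cfsg.Agent.H348.Der.SuzFacts.card_le_four h (t := φ ⟨pt, ht⟩) (x := φ ⟨px, hx⟩)
    (by rw [ho ht, order_pt]) (by
      have h6 := Subgroup.orderOf_dvd_natCard (centralizer ({φ ⟨pt, ht⟩} : Set T)) (x := φ ⟨py, hy⟩)
        (mem_centralizer_singleton_iff.2 (hc hy ht hyt))
      rwa [ho hy, order_py] at h6) (by rw [ho hx, order_px]) (hc hx ht hxt) hS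
    (hcent _ (hc ha ht hat) (hc hd ht hdt)) (hcent _ (hc ha hx hax) (hc hd hx hdx))
  have h5 : zpowers c = zpowers a ⊔ zpowers c := by
    apply Subgroup.eq_of_le_of_card_ge le_sup_right
    rw [Nat.card_zpowers, hco]
    exact h4
  apply hac
  rw [h5]
  exact (le_sup_left : zpowers a ≤ _) (mem_zpowers a)

/-- the simple group at the top embeds if the core is trivial -/
theorem exists_embed {M : Subgroup T} {O : Subgroup M} [O.Normal] (hO : Nat.card O = 1) {N : Subgroup (M ⧸ O)} :
    ∃ φ : N →* T, Function.Injective φ := by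
  have hO' : O = ⊥ := Subgroup.eq_bot_of_card_eq _ hO
  have hb : Function.Bijective (QuotientGroup.mk' O) := by
    refine ⟨?_, QuotientGroup.mk'_surjective O⟩
    rw [← MonoidHom.ker_eq_bot_iff, QuotientGroup.ker_mk', hO']
  let f : M ≃* M ⧸ O := MulEquiv.ofBijective (QuotientGroup.mk' O) hb
  refine ⟨M.subtype.comp (f.symm.toMonoidHom.comp N.subtype), ?_⟩
  exact M.subtype_injective.comp (f.symm.injective.comp N.subtype_injective)

end Suz

end Cfsg.Agent.H966.Cov
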